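import Groth.Agent.EtShLib.Const
import Groth.Agent.EtShLib.Stalk
import Groth.Prelude.Def_EtCore
import Mathlib.AlgebraicGeometry.Morphisms.Etale
import Mathlib.AlgebraicGeometry.Morphisms.FlatMono

/-!
# Sections of constant abelian sheaves as locally constant functions
-/

set_option autoImplicit false
set_option linter.style.haveILetI false
set_option linter.unusedSectionVars false
set_option backward.isDefEq.respectTransparency false
set_option backward.isDefEq.respectTransparency.types false
set_option synthInstance.maxHeartbeats 400000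
set_option maxHeartbeats 1000000

universe u

open CategoryTheory CategoryTheory.Limits AlgebraicGeometry Opposite Groth.Agent.EtShLib

noncomputable section

namespace ConstUnitLib

variable {X : Scheme.{u}}

/-- The constant presheaf maps isomorphically to the stalks of its sheafification. -/
theorem isCst_const (M : AddCommGrpCat.{u + 1}) :
    IsCst ((constantSheaf X.smallEtaleTopology AddCommGrpCat.{u + 1}).obj M) (EtCoh.top X)
      ((toSheafify X.smallEtaleTopology ((Functor.const (X.Etale)ᵒᵖ).obj M)).app (op (EtCoh.top X))) := by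
  let P := (Functor.const (X.Etale)ᵒᵖ).obj M
  let ψ := toSheafify X.smallEtaleTopology P
  let F := (constantSheaf X.smallEtaleTopology AddCommGrpCat.{u + 1}).obj M
  have key : ∀ {Z : X.Etale} (q : Z ⟶ EtCoh.top X) (m : ToType M),
      ψ.app (op Z) m = F.obj.map q.op (ψ.app (op (EtCoh.top X)) m) := fun q m =>
    NatTrans.naturality_apply ψ q.op m
  intro Ω _ _ ξ u
  rw [← isIso_iff_of_reflects_iso _ (forget AddCommGrpCat.{u + 1}), isIso_iff_bijective]
  constructor
  · intro m m' e
    obtain ⟨V, g, v, hv, he⟩ := (germ_eq_iff (F := F) ξ (EtCoh.top X) u _ _).1 e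
    have hs := Presheaf.equalizerSieve_mem X.smallEtaleTopology ψ (X := op V) m m'
      ((key g m).trans (he.trans (key g m').symm))
    obtain ⟨W, k, hk, w, hw⟩ := (pt ξ).jointly_surjective _ hs v
    exact hk
  · intro p
    obtain ⟨V, g, v, x, hv, rfl⟩ := exists_germ_below ξ p (EtCoh.top X) u
    have hs := Presheaf.imageSieve_mem X.smallEtaleTopology ψ (U := op V) x
    obtain ⟨W, k, hk, w, hw⟩ := (pt ξ).jointly_surjective _ hs v
    obtain ⟨m, hm⟩ := hk
    refine ⟨m, ?_⟩
    show germ ξ F (EtCoh.top X) u (ψ.app (op (EtCoh.top X)) m) = _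
    rw [← hv, ← (show Fib.map k w = v from hw), ← germ_res_apply, ← germ_res_apply, ← germ_res_apply]
    refine congrArg (germ ξ F W w) ?_
    rw [← ConcreteCategory.comp_apply (F.obj.map g.op), ← F.obj.map_comp, ← op_comp]
    exact (key _ m).symm.trans hm

variable {T : X.Etale} (hT : IsTerminal T) {F : Sheaf X.smallEtaleTopology AddCommGrpCat.{u + 1}}
  {M : AddCommGrpCat.{u + 1}} (η : M ⟶ F.obj.obj (op T))

/-- The constant section with value `m`. -/
def cSec (W : X.Etale) (m : ToType M) : ToType (F.obj.obj (op W)) := F.obj.map (hT.from W).op (η m)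

theorem cSec_res {W V : X.Etale} (g : V ⟶ W) (m : ToType M) :
    F.obj.map g.op (cSec hT η W m) = cSec hT η V m := by
  dsimp [cSec]
  rw [← ConcreteCategory.comp_apply, ← F.obj.map_comp, ← op_comp, hT.comp_from]

theorem germ_cSec {Ω : Type u} [Field Ω] [IsSepClosed Ω] {ξ : Spec (CommRingCat.of Ω) ⟶ X} {W : X.Etale}
    (u : Fib ξ W) (m : ToType M) : germ ξ F W u (cSec hT η W m) = germ ξ F T (u.map (hT.from W)) (η m) :=
  germ_res_apply ξ F (hT.from W) u (η m)

variable {hT η}
variable (h : IsCst F T η)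

include h

theorem bijective_germ_cSec {Ω : Type u} [Field Ω] [IsSepClosed Ω] {ξ : Spec (CommRingCat.of Ω) ⟶ X}
    {W : X.Etale} (u : Fib ξ W) : Function.Bijective fun m => germ ξ F W u (cSec hT η W m) := by
  haveI := h Ω ξ (u.map (hT.from W))
  have hb := ConcreteCategory.bijective_of_isIso (η ≫ germ ξ F T (u.map (hT.from W)))
  have he : (fun m => germ ξ F W u (cSec hT η W m)) = fun m => (η ≫ germ ξ F T (u.map (hT.from W))) m :=
    funext fun m => (germ_cSec hT η u m).trans (ConcreteCategory.comp_apply η _ m).symm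
  rw [he]
  exact hb

theorem exists_rep {W : X.Etale} (s : ToType (F.obj.obj (op W))) (y : W.left) :
    ∃ m : ToType M, ∃ (V : X.Etale) (g : V ⟶ W),
      (∃ v : V.left, g.left.base v = y) ∧ F.obj.map g.op s = cSec hT η V m := by
  obtain ⟨Ω, _, _, ξ, u, hu⟩ := exists_geometric y
  obtain ⟨m, hm⟩ := (bijective_germ_cSec (hT := hT) h u).2 (germ ξ F W u s)
  obtain ⟨V, g, v, hv, he⟩ := (germ_eq_iff (F := F) ξ W u s (cSec hT η W m)).1 hm.symm
  refine ⟨m, V, g, ⟨v.pt, ?_⟩, ?_⟩
  · rw [← hu, ← hv]
    rfl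
  · rw [he, cSec_res]

/-- The value of a section at a point. -/
def val {W : X.Etale} (s : ToType (F.obj.obj (op W))) (y : W.left) : ToType M := (exists_rep (hT := hT) h s y).choose

theorem germ_eq_of_rep {W : X.Etale} {s : ToType (F.obj.obj (op W))} {m : ToType M} {V : X.Etale} {g : V ⟶ W}
    {v : V.left} (he : F.obj.map g.op s = cSec hT η V m) {Ω : Type u} [Field Ω] [IsSepClosed Ω]
    {ξ : Spec (CommRingCat.of Ω) ⟶ X} (u : Fib ξ W) (hu : u.pt = g.left.base v) :
    germ ξ F W u s = germ ξ F W u (cSec hT η W m) := by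
  haveI := etale_left g
  obtain ⟨l, hl, -⟩ := Scheme.exists_fac_of_etale_of_isSepClosed g.left u.hom v hu.symm
  let a : Fib ξ V := Fib.mk l (by rw [← MorphismProperty.Over.w g, ← Category.assoc, hl, Fib.w])
  have ha : a.map g = u := Fib.ext ((Fib.map_hom g a).trans hl)
  rw [← ha, ← germ_res_apply, ← germ_res_apply, he, cSec_res]

theorem germ_val {W : X.Etale} (s : ToType (F.obj.obj (op W))) {Ω : Type u} [Field Ω] [IsSepClosed Ω]
    {ξ : Spec (CommRingCat.of Ω) ⟶ X} (u : Fib ξ W) :
    germ ξ F W u s = germ ξ F W u (cSec hT η W (val (hT := hT) h s u.pt)) := by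
  obtain ⟨V, g, ⟨v, hv⟩, he⟩ := (exists_rep (hT := hT) h s u.pt).choose_spec
  exact germ_eq_of_rep h he u hv.symm

theorem val_eq_of_germ {W : X.Etale} {s : ToType (F.obj.obj (op W))} {m : ToType M} {Ω : Type u} [Field Ω]
    [IsSepClosed Ω] {ξ : Spec (CommRingCat.of Ω) ⟶ X} (u : Fib ξ W)
    (he : germ ξ F W u s = germ ξ F W u (cSec hT η W m)) : val (hT := hT) h s u.pt = m :=
  (bijective_germ_cSec (hT := hT) h u).1 ((germ_val h s u).symm.trans he)

theorem val_eq_of_rep {W : X.Etale} {s : ToType (F.obj.obj (op W))} {m : ToType M} {V : X.Etale} {g : V ⟶ W}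
    (v : V.left) (he : F.obj.map g.op s = cSec hT η V m) : val (hT := hT) h s (g.left.base v) = m := by
  obtain ⟨Ω, _, _, ξ, u, hu⟩ := exists_geometric (g.left.base v)
  rw [← hu]
  exact val_eq_of_germ h u (germ_eq_of_rep h he u hu)

theorem isLocallyConstant_val {W : X.Etale} (s : ToType (F.obj.obj (op W))) :
    IsLocallyConstant (val (hT := hT) h s) := (IsLocallyConstant.iff_exists_open _).2 fun y => by
  obtain ⟨V, g, ⟨v, hv⟩, he⟩ := (exists_rep (hT := hT) h s y).choose_spec
  haveI := etale_left g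
  refine ⟨Set.range g.left.base, g.left.isOpenMap.isOpen_range, ⟨v, hv⟩, ?_⟩
  rintro _ ⟨v', rfl⟩
  exact (val_eq_of_rep h v' he).trans ((congrArg (val (hT := hT) h s) hv).symm.trans (val_eq_of_rep h v he)).symm

theorem val_cSec {W : X.Etale} (m : ToType M) (y : W.left) : val (hT := hT) h (cSec hT η W m) y = m := by
  obtain ⟨Ω, _, _, ξ, u, rfl⟩ := exists_geometric y
  exact val_eq_of_germ h u rfl

theorem val_res {W V : X.Etale} (k : V ⟶ W) (s : ToType (F.obj.obj (op W))) (z : V.left) :
    val (hT := hT) h (F.obj.map k.op s) z = val (hT := hT) h s (k.left.base z) := by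
  obtain ⟨Ω, _, _, ξ, v, rfl⟩ := exists_geometric z
  refine val_eq_of_germ h v ?_
  rw [germ_res_apply, germ_val (hT := hT) h s (v.map k), ← cSec_res hT η k, germ_res_apply]
  rfl

theorem val_ext {W : X.Etale} {s t : ToType (F.obj.obj (op W))}
    (he : ∀ y, val (hT := hT) h s y = val (hT := hT) h t y) : s = t :=
  eq_of_germ F s t fun Ω _ _ ξ u => by rw [germ_val (hT := hT) h s u, germ_val (hT := hT) h t u, he]

theorem val_unit {Z : Scheme.{u}} {f : Z ⟶ X} (hT' : IsTerminal ((EtCoh.bc f).obj T)) {W : X.Etale}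
    (s : ToType (F.obj.obj (op W))) (z : ((EtCoh.bc f).obj W).left) :
    val (hT := hT') (IsCst.pull (f := f) h) (((EtCoh.pullPushAdj f).unit.app F).hom.app (op W) s) z =
      val (hT := hT) h s ((pullback.fst W.hom f).base z) := by
  obtain ⟨Ω, _, _, ξ, v, rfl⟩ := exists_geometric z
  have e := germ_stalkPull f ξ AddCommGrpCat.{u + 1} F W (v.proj f ξ)
  rw [Fib.lift_proj] at e
  have e' : ∀ x : ToType (F.obj.obj (op W)),
      (stalkPull f ξ AddCommGrpCat.{u + 1}).hom.app F (germ (ξ ≫ f) F W (v.proj f ξ) x) =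
        germ ξ ((pullA f AddCommGrpCat.{u + 1}).obj F) ((EtCoh.bc f).obj W) v
          (((EtCoh.pullPushAdj f).unit.app F).hom.app (op W) x) := fun x => by
    rw [← ConcreteCategory.comp_apply, e]
    rfl
  refine val_eq_of_germ (IsCst.pull (f := f) h) v ?_
  have hc : ∀ m, ((EtCoh.pullPushAdj f).unit.app F).hom.app (op W) (cSec hT η W m) =
      cSec hT' (η ≫ ((EtCoh.pullPushAdj f).unit.app F).hom.app (op T)) ((EtCoh.bc f).obj W) m := fun m => by
    refine (NatTrans.naturality_apply ((EtCoh.pullPushAdj f).unit.app F).hom (hT.from W).op (η m)).trans ?_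
    dsimp only [cSec]
    rw [← hT'.hom_ext ((EtCoh.bc f).map (hT.from W)) (hT'.from _)]
    rfl
  rw [← e', germ_val (hT := hT) h s (v.proj f ξ), e', hc]
  congr 3

end ConstUnitLib

end
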