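import Groth.Agent.ConstUnitLib.Sections
import Groth.Prelude.Def_Pi1
import Groth.Agent.DvrDom.Points
import Groth.Agent.S7180
import Groth.Agent.EtShLib.Noeth

/-!
# The unit of a constant sheaf along morphisms which do not change locally constant functions
-/

set_option autoImplicit false
set_option linter.style.haveILetI false
set_option linter.unusedSectionVars false
set_option backward.isDefEq.respectTransparency false
set_option backward.isDefEq.respectTransparency.types false
set_option synthInstance.maxHeartbeats 400000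
set_option maxHeartbeats 1000000

universe u

open CategoryTheory CategoryTheory.Limits AlgebraicGeometry Opposite Groth.Agent.EtShLib

noncomputable section

namespace ConstUnitLib

variable {Z X : Scheme.{u}}

/-- Locally constant functions on étale pullbacks extend. -/
def LocExt (g : Z ⟶ X) : Prop :=
  ∀ (W : X.Etale) {α : Type (u + 1)} (φ : ↥(pullback W.hom g) → α), IsLocallyConstant φ → ∀ w : W.left,
    ∃ (V : W.left.Opens) (a : α), w ∈ V ∧ ∀ z, (pullback.fst W.hom g).base z ∈ V → φ z = a

theorem isIso_unit_const (g : Z ⟶ X) [EtCoh.BCCont g]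
    (hd : ∀ W : X.Etale, DenseRange (pullback.fst W.hom g).base) (hext : LocExt g)
    (M : AddCommGrpCat.{u + 1}) :
    IsIso ((EtCoh.pullPushAdj g).unit.app
      ((constantSheaf X.smallEtaleTopology AddCommGrpCat.{u + 1}).obj M)) := by
  let F := (constantSheaf X.smallEtaleTopology AddCommGrpCat.{u + 1}).obj M
  let T := EtCoh.top X
  have hT : IsTerminal T := EtCore.topIsTerminal X
  let η : M ⟶ F.obj.obj (op T) :=
    (toSheafify X.smallEtaleTopology ((Functor.const (X.Etale)ᵒᵖ).obj M)).app (op T)
  have h : IsCst F T η := isCst_const M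
  have hT' : IsTerminal ((EtCoh.bc g).obj T) := EtCore.bcTopIsTerminal g
  let φ := (EtCoh.pullPushAdj g).unit.app F
  have h' := IsCst.pull (f := g) h
  have key : ∀ {W : X.Etale} (s : ToType (F.obj.obj (op W))) z,
      val (hT := hT') h' (φ.hom.app (op W) s) z = val (hT := hT) h s ((pullback.fst W.hom g).base z) :=
    fun s z => val_unit h hT' s z
  have hinj : ∀ W : X.Etale, Function.Injective (φ.hom.app (op W)) := fun W s t e => by
    refine val_ext (hT := hT) h fun y => ?_
    obtain ⟨z, hz⟩ := (hd W).exists_mem_open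
      (((isLocallyConstant_val (hT := hT) h s).prodMk (isLocallyConstant_val (hT := hT) h t)).isOpen_fiber
        (val (hT := hT) h s y, val (hT := hT) h t y)) ⟨y, rfl⟩
    obtain ⟨e1, e2⟩ := Prod.mk.inj hz
    rw [← e1, ← e2, ← key s z, ← key t z, e]
  refine isIso_of_stalks φ fun Ω _ _ ξ => ?_
  rw [← isIso_iff_of_reflects_iso _ (forget AddCommGrpCat.{u + 1}), isIso_iff_bijective]
  constructor
  · intro p q e
    obtain ⟨W, w, s, rfl⟩ := exists_germ ξ p
    obtain ⟨V, k, v, t, hv, rfl⟩ := exists_germ_below ξ q W w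
    subst hv
    have e' : (stk ξ).map φ (germ ξ F W (v.map k) s) = (stk ξ).map φ (germ ξ F V v t) := e
    rw [← germ_res_apply] at e'
    obtain ⟨P, l, r, hr, he⟩ := (germ_eq_iff ξ V v _ _).1
      ((germ_natural_apply ξ φ V v _).symm.trans (e'.trans (germ_natural_apply ξ φ V v t)))
    have he' : F.obj.map l.op (F.obj.map k.op s) = F.obj.map l.op t :=
      hinj P ((NatTrans.naturality_apply φ.hom l.op _).trans
        (he.trans (NatTrans.naturality_apply φ.hom l.op _).symm))
    show germ ξ F W (v.map k) s = germ ξ F V v t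
    rw [← germ_res_apply ξ F k v s, ← hr, ← germ_res_apply ξ F l r (F.obj.map k.op s), he', germ_res_apply]
  · intro p
    obtain ⟨W, w, t, rfl⟩ := exists_germ ξ p
    obtain ⟨V, a, hwV, ha⟩ := hext W (val (hT := hT') h' t) (isLocallyConstant_val (hT := hT') h' t) w.pt
    let P : X.Etale := MorphismProperty.Over.mk ⊤ (V.ι ≫ W.hom)
      (MorphismProperty.IsStableUnderComposition.comp_mem _ _ (inferInstanceAs (AlgebraicGeometry.Etale V.ι)) W.prop)
    let i : P ⟶ W := MorphismProperty.Over.homMk V.ι rfl
    obtain ⟨l, hl, -⟩ := Scheme.exists_fac_of_etale_of_isSepClosed V.ι w.hom ⟨w.pt, hwV⟩ rfl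
    let v : Fib ξ P := Fib.mk l (by
      show l ≫ V.ι ≫ W.hom = ξ
      rw [← Category.assoc, hl, Fib.w])
    have hv : v.map i = w := Fib.ext ((Fib.map_hom i v).trans hl)
    refine ⟨germ ξ F P v (cSec hT η P a), ?_⟩
    refine (germ_natural_apply ξ φ P v _).trans ?_
    rw [← hv, ← germ_res_apply]
    refine congrArg (fun x => germ ξ ((EtCoh.push g).obj ((EtCoh.pull g).obj F)) P v x) (val_ext (hT := hT') h' fun z => ?_)
    rw [key, val_cSec]
    refine (ha _ ?_).symm.trans (val_res (hT := hT') h' ((EtCoh.bc g).map i) t z).symm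
    have hp : ((EtCoh.bc g).map i).left ≫ pullback.fst W.hom g = pullback.fst P.hom g ≫ V.ι := by
      exact pullback.lift_fst _ _ _
    have hp' := congrArg (fun q => q.base z) hp
    exact (congrArg (· ∈ (V : Set W.left)) hp').mpr ((pullback.fst P.hom g).base z).2

theorem isOpenMap_hom (W : X.Etale) : IsOpenMap W.hom.base := by
  haveI : AlgebraicGeometry.Etale W.hom := W.prop
  exact W.hom.isOpenMap

theorem denseRange_fst {g : Z ⟶ X} (hg : DenseRange g.base) (W : X.Etale) :
    DenseRange (pullback.fst W.hom g).base := by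
  show Dense (Set.range (pullback.fst W.hom g).base)
  rw [Scheme.Pullback.range_fst]
  exact hg.preimage (isOpenMap_hom W)

theorem exists_generization (hX : Pi1.IsNormalScheme X) (W : X.Etale) (w : W.left) :
    ∃ ξ : W.left, ξ ⤳ w ∧ ∀ a, a ⤳ w → ξ ⤳ a := by
  haveI : AlgebraicGeometry.Etale W.hom := W.prop
  haveI : IsDomain (W.left.presheaf.stalk w) := (Groth.Agent.S7180.result W.hom hX w).1
  refine ⟨W.left.fromSpecStalk w (⟨⊥, Ideal.isPrime_bot⟩ : PrimeSpectrum (W.left.presheaf.stalk w)), ?_, ?_⟩
  · exact (W.left.range_fromSpecStalk (x := w)).le ⟨_, rfl⟩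
  · intro a ha
    obtain ⟨b, rfl⟩ := (W.left.range_fromSpecStalk (x := w)).ge ha
    exact ((PrimeSpectrum.le_iff_specializes _ b).mp bot_le).map (W.left.fromSpecStalk w).continuous

/-- Extension along quasi-compact morphisms. -/
theorem locExt_of_qc (g : Z ⟶ X) [QuasiCompact g] (hd : DenseRange g.base)
    (hc : ∀ (W : X.Etale) (w : W.left), _root_.IsPreconnected ((pullback.fst W.hom g).base ⁻¹' {a | a ⤳ w})) :
    LocExt g := by
  intro W α φ hφ w
  let p := pullback.fst W.hom g
  haveI : QuasiCompact p := MorphismProperty.pullback_fst _ _ inferInstance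
  obtain ⟨z₀, hz₀⟩ := DvrDomLib.exists_specializes_of_mem_closure_range p w (denseRange_fst hd W w)
  let C : (pullback W.hom g).Opens :=
    ⟨{z | φ z ≠ φ z₀}, (hφ.isClopen_fiber (φ z₀)).1.isOpen_compl⟩
  haveI : IsClosedImmersion C.ι :=
    IsClosedImmersion.of_isPreimmersion _ (by
      rw [Scheme.Opens.range_ι]
      exact (hφ.isClopen_fiber (φ z₀)).compl.1)
  haveI : QuasiCompact (C.ι ≫ p) := inferInstance
  let r := C.ι ≫ p
  refine ⟨⟨(closure (Set.range r.base))ᶜ, isClosed_closure.isOpen_compl⟩, φ z₀, fun hw => ?_, fun z hz => ?_⟩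
  · obtain ⟨c, hc'⟩ := DvrDomLib.exists_specializes_of_mem_closure_range r w hw
    exact c.2 (hφ.apply_eq_of_isPreconnected (hc W w) hc' hz₀)
  · by_contra hne
    exact hz (subset_closure ⟨⟨z, hne⟩, rfl⟩)

theorem preconnected_openImmersion (hX : Pi1.IsNormalScheme X) (j : Z ⟶ X) [IsOpenImmersion j] (W : X.Etale)
    (w : W.left) : _root_.IsPreconnected ((pullback.fst W.hom j).base ⁻¹' {a | a ⤳ w}) := by
  haveI : AlgebraicGeometry.Etale W.hom := W.prop
  haveI : IsDomain (W.left.presheaf.stalk w) := (Groth.Agent.S7180.result W.hom hX w).1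
  haveI : IsOpenImmersion (pullback.fst W.hom j) := MorphismProperty.pullback_fst _ _ inferInstance
  have h : IsPreirreducible {a : W.left | a ⤳ w} := by
    rw [← W.left.range_fromSpecStalk, ← Set.image_univ]
    exact ((PreirreducibleSpace.isPreirreducible_univ (X := PrimeSpectrum (W.left.presheaf.stalk w))).image _
      (W.left.fromSpecStalk w).continuous.continuousOn)
  exact (h.preimage (pullback.fst W.hom j).isOpenEmbedding).isPreconnected

theorem locExt_open (hX : Pi1.IsNormalScheme X) (j : Z ⟶ X) [IsOpenImmersion j] [QuasiCompact j]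
    (hd : DenseRange j.base) : LocExt j :=
  locExt_of_qc j hd (preconnected_openImmersion hX j)

/-- The generic point with any preimmersed structure. -/
theorem locExt_generic (hX : Pi1.IsNormalScheme X) [IsIntegral X] (g : Z ⟶ X) [IsPreimmersion g]
    (hg : Set.range g.base = {genericPoint X}) : LocExt g := by
  have hs : Subsingleton Z := ⟨fun a b => g.isEmbedding.injective
    ((hg.le ⟨a, rfl⟩ : g.base a = genericPoint X).trans (hg.le ⟨b, rfl⟩ : g.base b = genericPoint X).symm)⟩
  haveI : QuasiCompact g := ⟨fun U _ _ => (Set.toFinite _).isCompact⟩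
  refine locExt_of_qc g ?_ fun W w => ?_
  · show Dense (Set.range g.base)
    rw [hg]
    exact dense_iff_closure_eq.2 (genericPoint_spec X)
  · haveI : AlgebraicGeometry.Etale W.hom := W.prop
    haveI : IsPreimmersion (pullback.fst W.hom g) :=
      MorphismProperty.pullback_fst (P := @IsPreimmersion) _ _ ‹_›
    obtain ⟨ξ, hξw, hξ⟩ := exists_generization hX W w
    refine Set.Subsingleton.isPreconnected fun a ha b hb => (pullback.fst W.hom g).isEmbedding.injective ?_
    have hη : ∀ c, (pullback.fst W.hom g).base c ⤳ w → (pullback.fst W.hom g).base c = ξ := fun c hcw => by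
      have hc : W.hom.base ((pullback.fst W.hom g).base c) = genericPoint X := by
        have : W.hom.base ((pullback.fst W.hom g).base c) ∈ Set.range g.base :=
          (Scheme.Pullback.range_fst W.hom g).le ⟨c, rfl⟩
        exact hg.le this
      have hξc : W.hom.base ξ = genericPoint X := by
        have := (hξ _ hcw).map W.hom.continuous
        rw [show W.hom ((pullback.fst W.hom g).base c) = genericPoint X from hc] at this
        exact (this.antisymm ((genericPoint_spec X).specializes trivial)).eq
      haveI := locallyQuasiFinite_of_etale W.hom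
      exact ((W.hom.isDiscrete_preimage_singleton (genericPoint X)).eq_of_specializes (hξ _ hcw) hξc hc).symm
    exact (hη a ha).trans (hη b hb).symm

theorem locExt_open_integral (hX : Pi1.IsNormalScheme X) [IsIntegral X] (U : X.Opens) (hU : (U : Set X).Nonempty) :
    LocExt U.ι := by
  let g := X.fromSpecStalk (genericPoint X)
  have hη : genericPoint X ∈ U := by
    obtain ⟨x, hx⟩ := hU
    exact ((genericPoint_spec X).specializes trivial).mem_open U.2 hx
  have hg : Set.range g.base = {genericPoint X} := by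
    rw [Scheme.range_fromSpecStalk]
    ext z
    exact ⟨fun hz => hz.antisymm ((genericPoint_spec X).specializes trivial) |>.eq, fun hz => hz ▸ specializes_rfl⟩
  have hgU : Set.range g.base ⊆ Set.range U.ι.base := by
    rw [hg, Scheme.Opens.range_ι]
    exact Set.singleton_subset_iff.2 hη
  let gU := IsOpenImmersion.lift U.ι g hgU
  have hgU' : gU ≫ U.ι = g := IsOpenImmersion.lift_fac _ _ _
  intro W α φ hφ w
  let l : pullback W.hom g ⟶ pullback W.hom U.ι :=
    pullback.map W.hom g W.hom U.ι (𝟙 _) gU (𝟙 _) (by simp) (by simp [hgU'])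
  have hl : l ≫ pullback.fst W.hom U.ι = pullback.fst W.hom g :=
    (pullback.lift_fst _ _ _).trans (Category.comp_id _)
  obtain ⟨V, a, hwV, ha⟩ := locExt_generic hX g hg W (fun z => φ (l.base z))
    (hφ.comp_continuous l.continuous) w
  refine ⟨V, a, hwV, fun z hz => ?_⟩
  haveI : AlgebraicGeometry.Etale W.hom := W.prop
  haveI : IsOpenImmersion (pullback.fst W.hom U.ι) := MorphismProperty.pullback_fst _ _ inferInstance
  have hdense : Dense (W.hom.base ⁻¹' {genericPoint X}) :=
    Dense.preimage (dense_iff_closure_eq.2 (genericPoint_spec X)) (isOpenMap_hom W)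
  obtain ⟨q, ⟨c, ⟨hc1, hc2⟩, rfl⟩, hq⟩ := hdense.inter_open_nonempty
    ((pullback.fst W.hom U.ι).base '' (φ ⁻¹' {φ z} ∩ (pullback.fst W.hom U.ι).base ⁻¹' (V : Set W.left)))
    ((pullback.fst W.hom U.ι).isOpenEmbedding.isOpenMap _
      ((hφ.isOpen_fiber (φ z)).inter (V.2.preimage (pullback.fst W.hom U.ι).continuous)))
    ⟨_, z, ⟨rfl, hz⟩, rfl⟩
  obtain ⟨b, hb⟩ : (pullback.fst W.hom U.ι).base c ∈ Set.range (pullback.fst W.hom g).base :=
    (Scheme.Pullback.range_fst W.hom g).ge (hg.ge hq :)
  have hbc : l.base b = c := (pullback.fst W.hom U.ι).isEmbedding.injective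
    ((congrArg (fun k => k.base b) hl).trans hb)
  rw [← (show φ c = φ z from hc1), ← hbc]
  exact ha b (hb ▸ hc2)

theorem denseRange_open [IsIntegral X] (U : X.Opens) (hU : (U : Set X).Nonempty) : DenseRange U.ι.base := by
  show Dense (Set.range U.ι.base)
  rw [Scheme.Opens.range_ι]
  exact U.2.dense hU

end ConstUnitLib

end
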